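import Groth.Agent.Lib.FieldH25.Transfer
import Groth.Agent.Lib.LocAcyc24.TorsionConst
import Groth.Prelude.Def_EtBase

set_option autoImplicit false
set_option backward.isDefEq.respectTransparency.types false

universe u

open CategoryTheory CategoryTheory.Limits AlgebraicGeometry Opposite Abelian

namespace Groth.Agent.BaseChangeH28

variable {X Y Z X' Y' : Scheme.{u}}

theorem homEquiv_pullComp (a : X ⟶ Y) (b : Y ⟶ Z) (G : EtCoh.Ab Z) (F : EtCoh.Ab X)
    (k : (EtCoh.pull a).obj ((EtCoh.pull b).obj G) ⟶ F) :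
    (EtCoh.pullPushAdj (a ≫ b)).homEquiv _ _ ((EtCore.pullComp a b).hom.app G ≫ k) =
      (EtCoh.pullPushAdj b).homEquiv _ _ ((EtCoh.pullPushAdj a).homEquiv _ _ k) ≫ (EtCoh.pushComp b a).hom.app F := by
  rw [Adjunction.homEquiv_naturality_right, EtCore.pullComp, Adjunction.homEquiv_leftAdjointUniq_hom_app]
  simp only [Adjunction.homEquiv_unit, Adjunction.ofNatIsoRight, Functor.map_comp]
  simp only [Adjunction.mkOfHomEquiv, Adjunction.mk', Adjunction.comp, Adjunction.equivHomsetRightOfNatIso,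
    Equiv.trans_apply, Equiv.coe_fn_mk, Adjunction.homEquiv_unit, Functor.comp_obj, Functor.comp_map,
    Category.assoc, CategoryTheory.Functor.map_id, Category.comp_id, NatTrans.comp_app, Functor.whiskerRight_app,
    Functor.whiskerLeft_app, Functor.rightUnitor_inv_app, Functor.associator_inv_app, Functor.associator_hom_app,
    Category.id_comp, Functor.id_obj]
  congr 2
  exact ((EtCoh.pushComp b a).hom.naturality k).symm

theorem pushCongr_rfl_app (f : X ⟶ Y) (F : EtCoh.Ab X) :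
    (EtCoh.pushCongr (rfl : f = f)).hom.app F = 𝟙 _ := by
  apply (sheafToPresheaf Y.smallEtaleTopology AddCommGrpCat.{u + 1}).map_injective
  refine NatTrans.ext (funext fun U => ?_)
  show F.obj.map _ = 𝟙 _
  simp only [MorphismProperty.Over.pullbackCongr]
  refine (congrArg (fun m => F.obj.map (Quiver.Hom.op m)) (?_ : _ = 𝟙 _)).trans (by simp)
  apply MorphismProperty.Over.Hom.ext
  exact pullback.hom_ext (by simp; rfl) (by simp; rfl)

theorem homEquiv_pullCongr {f f' : X ⟶ Y} (h : f = f') (G : EtCoh.Ab Y) (F : EtCoh.Ab X)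
    (k : (EtCoh.pull f).obj G ⟶ F) :
    (EtCoh.pullPushAdj f').homEquiv _ _ ((EtCore.pullCongr h).inv.app G ≫ k) =
      (EtCoh.pullPushAdj f).homEquiv _ _ k ≫ (EtCoh.pushCongr h).hom.app F := by
  subst h
  rw [pushCongr_rfl_app, Category.comp_id]
  congr 1

theorem key (f : X ⟶ Y) (g : Y' ⟶ Y) (f' : X' ⟶ Y') (g' : X' ⟶ X) (w : g' ≫ f = f' ≫ g) (F : EtCoh.Ab X) :
    (EtCore.pullCongr w).inv.app ((EtCoh.push f).obj F) ≫ (EtCore.pullComp g' f).hom.app ((EtCoh.push f).obj F) ≫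
        (EtCoh.pull g').map ((EtCoh.pullPushAdj f).counit.app F) =
      (EtCore.pullComp f' g).hom.app ((EtCoh.push f).obj F) ≫
        (EtCoh.pull f').map (EtCoh.baseChange0 f g f' g' w F) ≫
        (EtCoh.pullPushAdj f').counit.app ((EtCoh.pull g').obj F) := by
  dsimp only [Functor.id_obj]
  apply ((EtCoh.pullPushAdj (f' ≫ g)).homEquiv _ _).injective
  rw [homEquiv_pullCongr, homEquiv_pullComp, homEquiv_pullComp,
    show (EtCoh.pull f').map (EtCoh.baseChange0 f g f' g' w F) ≫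
        (EtCoh.pullPushAdj f').counit.app ((EtCoh.pull g').obj F) =
      ((EtCoh.pullPushAdj f').homEquiv _ _).symm (EtCoh.baseChange0 f g f' g' w F) from
      (Adjunction.homEquiv_counit _ _ _ _).symm, Equiv.apply_symm_apply, EtCoh.baseChange0, Equiv.apply_symm_apply]
  simp only [Category.assoc]
  erw [Iso.inv_hom_id_app, Category.comp_id]
  have h1 : (EtCoh.pullPushAdj f).homEquiv _ _ ((EtCoh.pullPushAdj g').homEquiv _ _
      ((EtCoh.pull g').map ((EtCoh.pullPushAdj f).counit.app F))) =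
      (EtCoh.push f).map ((EtCoh.pullPushAdj g').unit.app F) := by
    rw [Adjunction.homEquiv_unit, Adjunction.homEquiv_unit]
    erw [Adjunction.unit_naturality]
    rw [Functor.map_comp]
    erw [Adjunction.right_triangle_components_assoc]
    rfl
  erw [h1]

theorem main (f : X ⟶ Y) (g : Y' ⟶ Y) (f' : X' ⟶ Y') (g' : X' ⟶ X) (w : g' ≫ f = f' ≫ g) (F : EtCoh.Ab X) (q : ℕ)
    [PreservesFiniteLimits (EtCoh.pull f)] [PreservesFiniteLimits (EtCoh.pull g)]
    [PreservesFiniteLimits (EtCoh.pull f')] [PreservesFiniteLimits (EtCoh.pull g')]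
    (ζ : EtCoh.H Y ((EtCoh.push f).obj F) q) :
    EtCore.Hpull g' F q (EtLim.HofPush f F q ζ) =
      EtLim.HofPush f' ((EtCoh.pull g').obj F) q
        (((EtCoh.HF Y' q).map (EtCoh.baseChange0 f g f' g' w F)).hom
          (EtCore.Hpull g ((EtCoh.push f).obj F) q ζ)) := by
  have hL : EtCore.Hpull g' F q (EtLim.HofPush f F q ζ) = (EtCore.Hpull (g' ≫ f) _ q ζ).comp
      (Ext.mk₀ ((EtCore.pullComp g' f).hom.app ((EtCoh.push f).obj F) ≫
        (EtCoh.pull g').map ((EtCoh.pullPushAdj f).counit.app F))) (add_zero q) := by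
    rw [← FieldH25.Hpull_comp, Ext.comp_assoc_of_third_deg_zero, Ext.mk₀_comp_mk₀, Iso.inv_hom_id_app_assoc,
      LocAcyc24.Hpull_nat]
    rfl
  have hR : EtLim.HofPush f' ((EtCoh.pull g').obj F) q
        (((EtCoh.HF Y' q).map (EtCoh.baseChange0 f g f' g' w F)).hom
          (EtCore.Hpull g ((EtCoh.push f).obj F) q ζ)) = (EtCore.Hpull (f' ≫ g) _ q ζ).comp
      (Ext.mk₀ ((EtCore.pullComp f' g).hom.app ((EtCoh.push f).obj F) ≫
        (EtCoh.pull f').map (EtCoh.baseChange0 f g f' g' w F) ≫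
        (EtCoh.pullPushAdj f').counit.app ((EtCoh.pull g').obj F))) (add_zero q) := by
    rw [← FieldH25.Hpull_comp, Ext.comp_assoc_of_third_deg_zero, Ext.mk₀_comp_mk₀, Iso.inv_hom_id_app_assoc,
      ← Ext.mk₀_comp_mk₀, ← Ext.comp_assoc_of_third_deg_zero, LocAcyc24.Hpull_nat]
    rfl
  have hC : ∀ {h₁ h₂ : X' ⟶ Y} (e : h₁ = h₂) [PreservesFiniteLimits (EtCoh.pull h₁)]
      [PreservesFiniteLimits (EtCoh.pull h₂)],
      EtCore.Hpull h₁ ((EtCoh.push f).obj F) q ζ = (EtCore.Hpull h₂ _ q ζ).comp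
        (Ext.mk₀ ((EtCore.pullCongr e).inv.app _)) (add_zero q) := by
    rintro h₁ h₂ rfl _ _
    exact (Ext.comp_mk₀_id _).symm
  rw [hL, hR, hC w, Ext.comp_assoc_of_third_deg_zero, Ext.mk₀_comp_mk₀, key]

end Groth.Agent.BaseChangeH28
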